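import Cfsg.Agent.H133.PB.AltTwo
import Cfsg.Agent.H394.PBTools
import Cfsg.Agent.H648.Loc.LargeIdx
import Cfsg.Agent.H820.ElB
import Cfsg.Agent.H839.SeventeenMain
import Cfsg.Agent.H995.IMBRow
import Cfsg.Agent.KFacts.Baby.Inst

/-!
# S4826, the row of the Baby Monster (helper707)

* `nb_two` : `NB 2 2` : the index of the centralizer of an element of odd prime order is divisible by 4.
* `p` odd : the irreducible characters of degree `9287037474 = 2·3·11·13·17·19·23·31·47` and
  `9458750 = 2·5^4·7·23·47` (helper995) belong to the principal 2-block.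
* `p = 2` : a real element of order 17 (of `Fi23`).
-/

set_option autoImplicit false

namespace Cfsg.Agent.H707.PB.RowB

open Subgroup Cfsg Cfsg.Agent.H133.PB Cfsg.Agent.H709.PB

universe u

theorem card_b : Nat.card Spor.BabyMonster = 4154781481226426191177580544000000 := Cfsg.Agent.BM.KHAll.card_B

theorem finite_b : Finite Spor.BabyMonster := Nat.finite_of_card_ne_zero (by rw [card_b]; norm_num)

/-- the index of the centralizer of an element of odd prime order -/
theorem four_dvd {x : Spor.BabyMonster} {r : ℕ} (hr : r.Prime) (hr2 : r ≠ 2) (hx : orderOf x = r) :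
    4 ∣ (centralizer ({x} : Set Spor.BabyMonster)).index := by
  have A := Cfsg.Agent.BabyM.Instance.all
  have := A.finite_G
  rw [Cfsg.Agent.H648.Loc.index_cent Cfsg.Agent.BM.KHAll.iso x]
  refine Cfsg.Agent.H648.Loc.four_dvd_of_large (Cfsg.Agent.KFacts.Baby.Inst.large A) ?_ (r := r)
    (fun h => hr2 ((Nat.prime_dvd_prime_iff_eq Nat.prime_two hr).1 h).symm) hr.one_lt.ne' ?_
  · have h1 : Nat.card (Subgroup.centralizer ({Cfsg.Agent.BabyU.ClosModel.zz A} :
        Set Cfsg.Agent.BabyM.Inst.M.G)) = 2 ^ 23 * 42305421312000 := by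
      rw [Nat.card_congr (Cfsg.Agent.KFacts.Baby.Inst.eC A).toEquiv, A.grp.card_C]
    rw [h1]
    norm_num
  · rw [← hx]
    exact MulEquiv.orderOf_eq Cfsg.Agent.BM.KHAll.iso x

/-- **The irreducible characters outside the principal 2-block have degree divisible by 4.** -/
theorem nb_two : NB 2 2 Spor.BabyMonster := by
  have hfin := finite_b
  have : Fact (Nat.Prime 2) := ⟨Nat.prime_two⟩
  refine NB.of_orders (a := 41) (by rw [card_b]; norm_num) fun y hy hy2 hd => ?_
  have h1 := four_dvd hy hy2 rfl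
  have h2 : 2 ^ (41 + 1 - 2) * 4 ∣ Nat.card Spor.BabyMonster := by
    rw [← Subgroup.card_mul_index (centralizer ({y} : Set Spor.BabyMonster))]
    exact Nat.mul_dvd_mul hd h1
  rw [card_b] at h2
  norm_num at h2

/-- the odd primes -/
theorem bd_of_deg {p d : ℕ} (hd : d ∈ Cfsg.Agent.H995.IMB.ds) (h4 : ¬ 4 ∣ d) (hp : p ∣ d) :
    BD p 2 Spor.BabyMonster := by
  have hfin := finite_b
  obtain ⟨χ, -, h⟩ := Cfsg.Agent.H995.IMB.deg_b (S := Spor.BabyMonster) ⟨MulEquiv.refl _⟩ hd
  exact Cfsg.Agent.H394.PBTools.bd_of_nb nb_two χ (by rw [h]; exact h4) (by rw [h]; exact hp)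

/-- An involution normalizing but not centralizing a subgroup of prime order inverts it. -/
theorem inverts {G : Type*} [Group G] [Finite G] {p : ℕ} (hp : p.Prime) {x y : G} (hx : orderOf x = p) (hy : y * y = 1)
    (hn : y ∈ normalizer ((zpowers x : Subgroup G) : Set G)) (hc : y * x ≠ x * y) : y * x * y⁻¹ = x⁻¹ := by
  have h1 : y * x * y⁻¹ ∈ zpowers x := (Subgroup.mem_normalizer_iff.1 hn x).1 (mem_zpowers x)
  obtain ⟨k, hk⟩ := mem_zpowers_iff.1 h1
  have h2 : x ^ (k * k) = x := by
    calc x ^ (k * k) = (x ^ k) ^ k := zpow_mul x k k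
      _ = (y * x * y⁻¹) ^ k := by rw [hk]
      _ = y * x ^ k * y⁻¹ := conj_zpow
      _ = y * (y * x * y⁻¹) * y⁻¹ := by rw [hk]
      _ = (y * y) * x * (y * y)⁻¹ := by group
      _ = x := by rw [hy]; group
  have h3 : x ^ (k * k - 1) = 1 := by
    rw [zpow_sub, h2, zpow_one, mul_inv_cancel]
  have h4 : ((p : ℕ) : ℤ) ∣ (k - 1) * (k + 1) := by
    rw [← hx]
    have := orderOf_dvd_iff_zpow_eq_one.2 h3
    rwa [show (k - 1) * (k + 1) = k * k - 1 by ring]
  rcases (Nat.prime_iff_prime_int.1 hp).dvd_or_dvd h4 with h5 | h5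
  · exfalso
    rw [← hx] at h5
    have h6 := orderOf_dvd_iff_zpow_eq_one.1 h5
    rw [zpow_sub, zpow_one, mul_inv_eq_one] at h6
    rw [h6] at hk
    exact hc (by rw [eq_mul_inv_iff_mul_eq] at hk; exact hk.symm)
  · rw [← hx] at h5
    have h6 := orderOf_dvd_iff_zpow_eq_one.1 h5
    rw [zpow_add, zpow_one] at h6
    rw [← hk]
    exact eq_inv_of_mul_eq_one_left h6

/-- A dihedral subgroup of order 34 of `Fi23`. -/
theorem exists_fi23 : ∃ s x : Spor.Fi23, s * s = 1 ∧ orderOf x = 17 ∧ s * x * s⁻¹ = x⁻¹ := by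
  have : Fact (Nat.Prime 2) := ⟨Nat.prime_two⟩
  have hcard : Nat.card Spor.Fi23 = 4089470473293004800 := S1697.result.2
  have hfin : Finite Spor.Fi23 := Nat.finite_of_card_ne_zero (by rw [hcard]; norm_num)
  obtain ⟨x, hx⟩ : ∃ x : Spor.Fi23, orderOf x = 17 :=
    ⟨_, by rw [← Nat.card_zpowers]; exact H839.Fi23.card_y17⟩
  obtain ⟨h1, h2⟩ := H839.Fi23.seventeen_main (zpowers x) (by rw [Nat.card_zpowers, hx])
  obtain ⟨y, hy⟩ := exists_prime_orderOf_dvd_card' 2
    (show 2 ∣ Nat.card ↥(normalizer ((zpowers x : Subgroup Spor.Fi23) : Set Spor.Fi23)) by rw [h1]; norm_num)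
  have hyo : orderOf (y : Spor.Fi23) = 2 := by rw [Subgroup.orderOf_coe, hy]
  have hy2 : (y : Spor.Fi23) * y = 1 := by rw [← pow_two, ← hyo, pow_orderOf_eq_one]
  refine ⟨y, x, hy2, hx, inverts (p := 17) (by norm_num) hx hy2 y.2 fun hc => ?_⟩
  have h3 : (y : Spor.Fi23) ∈ centralizer ((zpowers x : Subgroup Spor.Fi23) : Set Spor.Fi23) := by
    rw [centralizer_zpowers_eq]
    exact mem_centralizer_singleton_iff.2 hc
  rw [h2] at h3
  have h4 := Subgroup.orderOf_dvd_natCard _ h3
  rw [Nat.card_zpowers, hx, hyo] at h4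
  norm_num at h4

/-- `p = 2` -/
theorem bd_two : BD 2 17 Spor.BabyMonster := by
  have hfin := finite_b
  have i17 : Fact (Nat.Prime 17) := ⟨by norm_num⟩
  obtain ⟨f, hf⟩ := Cfsg.Agent.H820.ElB.exists_hom
  obtain ⟨s, x, -, hx, hi⟩ := exists_fi23
  have hg : orderOf (f x) = 17 := by rw [orderOf_injective f hf, hx]
  refine BD.of_real_nilpotent (by norm_num) (g := f x) ⟨1, by rw [hg, pow_one]⟩ ?_ ?_ ?_
  · intro h
    rw [h, orderOf_one] at hg
    norm_num at hg
  · exact isConj_iff.2 ⟨f s, by rw [← map_mul, ← map_inv, ← map_mul, hi, map_inv]⟩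
  · refine index_pPrimeCore_of_central
      (⟨f x, Subgroup.mem_centralizer_singleton_iff.2 rfl⟩ : Subgroup.centralizer ({f x} : Set Spor.BabyMonster))
      ?_ ?_ ?_
    · rw [Subgroup.orderOf_mk]; exact hg
    · intro y
      exact Subtype.ext (Subgroup.mem_centralizer_singleton_iff.1 y.2)
    · intro h
      have h1 := h.trans (Subgroup.card_subgroup_dvd_card _)
      rw [card_b] at h1
      norm_num at h1

/-- **The row of the Baby Monster.** -/
theorem row_b {S : Type u} [Group S] (h : Cfsg.Spor.IsoB S) {p : ℕ} (hp : p.Prime) (hd : p ∣ Nat.card S) :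
    Row p S := by
  have hcS := Cfsg.Agent.H995.IMB.card_of h
  have hps := Cfsg.Agent.H995.IMB.mem_ps hp (by rw [← hcS]; exact hd)
  obtain ⟨e⟩ := h
  refine Row.of_equiv e ?_
  have hfin := finite_b
  have h2 : ∀ {r : ℕ}, r ≠ 2 → BD r 2 Spor.BabyMonster → Row r Spor.BabyMonster := fun hr h =>
    Row.intro Nat.prime_two hr.symm (by rw [card_b]; norm_num) h
  unfold Cfsg.Agent.H995.IMB.ps at hps
  simp only [List.mem_cons, List.not_mem_nil, or_false] at hps
  rcases hps with rfl | rfl | rfl | rfl | rfl | rfl | rfl | rfl | rfl | rfl | rfl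
  · exact Row.intro (q := 17) (by norm_num) (by norm_num) (by rw [card_b]; norm_num) bd_two
  · exact h2 (by norm_num) (bd_of_deg (d := 9287037474) (by decide) (by norm_num) (by norm_num))
  · exact h2 (by norm_num) (bd_of_deg (d := 9458750) (by decide) (by norm_num) (by norm_num))
  · exact h2 (by norm_num) (bd_of_deg (d := 9458750) (by decide) (by norm_num) (by norm_num))
  · exact h2 (by norm_num) (bd_of_deg (d := 9287037474) (by decide) (by norm_num) (by norm_num))
  · exact h2 (by norm_num) (bd_of_deg (d := 9287037474) (by decide) (by norm_num) (by norm_num))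
  · exact h2 (by norm_num) (bd_of_deg (d := 9287037474) (by decide) (by norm_num) (by norm_num))
  · exact h2 (by norm_num) (bd_of_deg (d := 9287037474) (by decide) (by norm_num) (by norm_num))
  · exact h2 (by norm_num) (bd_of_deg (d := 9287037474) (by decide) (by norm_num) (by norm_num))
  · exact h2 (by norm_num) (bd_of_deg (d := 9287037474) (by decide) (by norm_num) (by norm_num))
  · exact h2 (by norm_num) (bd_of_deg (d := 9287037474) (by decide) (by norm_num) (by norm_num))

end Cfsg.Agent.H707.PB.RowB
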